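import Cfsg.Agent.LSU.Main

/-!
Irreducible representations of degree at least two.
-/

set_option autoImplicit false
set_option linter.unusedSectionVars false

namespace Cfsg.Agent.LSU

open Module Matrix Cfsg.Agent.Uni Cfsg.Agent.H39

/-- an irreducible representation of degree at least two is nontrivial -/
theorem exists_ne_of_irr {G : Type*} [Group G] {k : ℕ} (ρ : Representation ℂ G (Fin k → ℂ)) (hirr : ρ.IsIrreducible)
    (hk : 2 ≤ k) : ∃ g v, ρ g v ≠ v := by
  by_contra hcon
  push Not at hcon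
  let i0 : Fin k := ⟨0, by omega⟩
  let σ : Subrepresentation ρ :=
    { toSubmodule := Submodule.span ℂ {(Pi.single i0 1 : Fin k → ℂ)}
      apply_mem_toSubmodule := by
        intro g v hv
        rw [hcon]; exact hv }
  rcases hirr.eq_bot_or_eq_top σ with h1 | h1
  · have h2 : (Pi.single i0 1 : Fin k → ℂ) ∈ σ.toSubmodule := Submodule.mem_span_singleton_self _
    rw [h1] at h2
    have h3 : (Pi.single i0 1 : Fin k → ℂ) = 0 := h2
    have h4 := congrFun h3 i0
    simp at h4
  · have h2 : finrank ℂ σ.toSubmodule = k := by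
      rw [h1]
      have : finrank ℂ (⊤ : Submodule ℂ (Fin k → ℂ)) = k := by simp
      exact this
    have h3 : finrank ℂ (Submodule.span ℂ {(Pi.single i0 1 : Fin k → ℂ)}) ≤ 1 :=
      (finrank_span_le_card _).trans (by simp)
    have h4 : finrank ℂ σ.toSubmodule ≤ 1 := h3
    omega

variable {F : Type*} [Field F] [Fintype F] {q n : ℕ}

theorem BB_le (hF : Fintype.card F = q ^ 2) (hn : 3 ≤ n) (h32 : ¬ (n = 3 ∧ q = 2)) {k : ℕ}
    (ρ : Representation ℂ (SU n F q) (Fin k → ℂ)) (hirr : ρ.IsIrreducible) (hk : 2 ≤ k) : BB q n ≤ k := by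
  obtain ⟨s₀, hs0, hs₀⟩ := exists_skew hF
  obtain ⟨g, v, hgv⟩ := exists_ne_of_irr ρ hirr hk
  by_contra hcon
  apply hgv
  have hall : ∀ u : Fin n → F, hermForm n F q u u = 0 → u ≠ 0 → wt (TU hF s₀ ρ u) 0 = ⊤ := by
    intro u hu hu0
    by_contra h
    apply hcon
    have := bound hF hs₀ n hn (Fin k → ℂ) ρ u hu hu0 h
    rwa [Module.finrank_fin_fun] at this
  have hTT : TT n F q ≤ MonoidHom.ker ρ := by
    rw [TT, Subgroup.closure_le]
    rintro A ⟨w, c, hw, hA⟩
    rw [SetLike.mem_coe, MonoidHom.mem_ker]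
    have hA' := (isEich_zero_iff_matrix hF A w c).2 hA
    by_cases hw0 : w = 0
    · have : A = 1 := by
        apply act_ext
        intro x
        rw [(isEich_zero_iff hF _ _ _).1 hA', hw0, smul_zero, add_zero, act_one]
      rw [this, map_one]
    · have hc := skew_of_isEich hF hw0 hw hA'
      -- `c = s₀ * c'`
      have hc' : (c / s₀) ^ q = c / s₀ := by
        rw [div_pow, hc, hs₀, neg_div_neg_eq]
      have e : s₀ * ((⟨c / s₀, hc'⟩ : KK hF) : F) = c := by
        change s₀ * (c / s₀) = c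
        field_simp
      have h1 := isEich_T hF hw (skew_mul hF hs₀ (⟨c / s₀, hc'⟩ : KK hF))
      rw [e] at h1
      have h2 := hA'.unique h1
      refine LinearMap.ext fun x => ?_
      have h3 := (wt_zero_top_iff hF ρ w).1 (hall w hw hw0) ⟨c / s₀, hc'⟩ x
      rw [TU, e, ← h2] at h3
      exact h3
  rw [TT_eq_top hF (by omega) h32] at hTT
  have h1 : ρ g = 1 := hTT (Subgroup.mem_top g)
  rw [h1]; rfl

end Cfsg.Agent.LSU
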