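import Cfsg.Agent.H39.Weights

/-!
Additive characters of finite fields and counting of weights.
-/

set_option autoImplicit false
set_option linter.unusedSectionVars false

namespace Cfsg.Agent.LSU

open Module Cfsg.Agent.H39

section field
variable {K : Type*} [Field K] [Fintype K]

/-- every additive character is a shift of a nontrivial one -/
theorem exists_shift {ψ : AddChar K ℂ} (hψ : ψ ≠ 0) (φ : AddChar K ℂ) : ∃ b : K, ∀ x, φ x = ψ (b * x) := by
  classical
  have hprim := AddChar.IsPrimitive.of_ne_one (ψ := ψ) (by rwa [AddChar.one_eq_zero])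
  have hinj := AddChar.to_mulShift_inj_of_isPrimitive hprim
  have hcard : Fintype.card K = Fintype.card (AddChar K ℂ) := (AddChar.card_eq).symm
  obtain ⟨b, hb⟩ := ((Fintype.bijective_iff_injective_and_card _).2 ⟨hinj, hcard⟩).2 φ
  refine ⟨b, fun x => ?_⟩
  rw [← hb, AddChar.mulShift_apply]

variable {V : Type*} [AddCommGroup V] [Module ℂ V] [FiniteDimensional ℂ V]

/-- counting weights when all shifts of a nontrivial weight have multiplicity at least `D` -/
theorem finrank_ge (U : K → (V →ₗ[ℂ] V)) (h0 : ∀ v, U 0 v = v) (hU : ∀ a b v, U (a + b) v = U a (U b v))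
    {ψ : AddChar K ℂ} (hψ : ψ ≠ 0) (D : ℕ) (hD : ∀ c : K, c ≠ 0 → D ≤ finrank ℂ (wt U (ψ.mulShift c))) :
    finrank ℂ (wt U 0) + (Fintype.card K - 1) * D ≤ finrank ℂ V := by
  classical
  rw [finrank_eq_sum_wt U h0 hU]
  have hprim := AddChar.IsPrimitive.of_ne_one (ψ := ψ) (by rwa [AddChar.one_eq_zero])
  have hinj := AddChar.to_mulShift_inj_of_isPrimitive hprim
  have h1 : ∑ c : K, finrank ℂ (wt U (ψ.mulShift c)) ≤ ∑ φ : AddChar K ℂ, finrank ℂ (wt U φ) := by
    have : ∑ c : K, finrank ℂ (wt U (ψ.mulShift c)) =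
        ∑ φ ∈ Finset.univ.image (fun c : K => ψ.mulShift c), finrank ℂ (wt U φ) := by
      rw [Finset.sum_image]
      intro a _ b _ hab
      exact hinj hab
    rw [this]
    exact Finset.sum_le_sum_of_subset (Finset.subset_univ _)
  refine le_trans ?_ h1
  rw [← Finset.add_sum_erase _ _ (Finset.mem_univ (0 : K))]
  have h2 : ψ.mulShift 0 = 0 := by rw [AddChar.mulShift_zero, AddChar.one_eq_zero]
  rw [h2]
  refine Nat.add_le_add_left ?_ _
  have h3 : ∑ _c ∈ Finset.univ.erase (0 : K), D ≤ ∑ c ∈ Finset.univ.erase (0 : K), finrank ℂ (wt U (ψ.mulShift c)) :=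
    Finset.sum_le_sum fun c hc => hD c (Finset.ne_of_mem_erase hc)
  rw [Finset.sum_const, Finset.card_erase_of_mem (Finset.mem_univ _), Finset.card_univ, smul_eq_mul] at h3
  exact h3

end field

/-- the zero weight space is the fixed space -/
theorem mem_wt_zero {A V : Type*} [AddCommGroup A] [Fintype A] [AddCommGroup V] [Module ℂ V] {U : A → (V →ₗ[ℂ] V)} {v : V} :
    v ∈ wt U 0 ↔ ∀ a, U a v = v := by
  rw [mem_wt]
  simp

/-- if all weight spaces are contained in a subspace, it is everything -/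
theorem eq_top_of_wt_le {A V : Type*} [AddCommGroup A] [Fintype A] [AddCommGroup V] [Module ℂ V]
    (U : A → (V →ₗ[ℂ] V)) (h0 : ∀ v, U 0 v = v) (hU : ∀ a b v, U (a + b) v = U a (U b v)) (M : Submodule ℂ V)
    (h : ∀ ψ, wt U ψ ≤ M) : M = ⊤ := by
  rw [eq_top_iff]
  intro v _
  have hcard : (Fintype.card A : ℂ) ≠ 0 := by
    simp [Fintype.card_ne_zero]
  have h1 : (Fintype.card A : ℂ) • v ∈ M := by
    rw [← sum_wtProj U h0 v]
    exact Submodule.sum_mem _ fun ψ _ => h ψ (wtProj_mem U hU ψ v)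
  exact (Submodule.smul_mem_iff _ hcard).1 h1

end Cfsg.Agent.LSU
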