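import Cfsg.Agent.LSU.Rep

/-!
Dimension of nontrivial weight spaces of the centre of the Heisenberg group.
-/

set_option autoImplicit false
set_option linter.unusedSectionVars false

namespace Cfsg.Agent.LSU

open Module Matrix Cfsg.Agent.Uni Cfsg.Agent.H39

variable {F : Type*} [Field F] [Fintype F] {q n : ℕ}

/-- vectors in the last `n` coordinates -/
def hat (x : Fin n → F) : Fin (n + 2) → F := Fin.cons 0 (Fin.cons 0 x)

theorem hat_form (hF : Fintype.card F = q ^ 2) (x y : Fin n → F) :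
    hermForm (n + 2) F q (hat x) (hat y) = hermForm n F q x y := by
  rw [hat, hat, hermForm_cons, hermForm_cons]
  ring

theorem hat_sub (x y : Fin n → F) : hat (x - y) = hat x - hat y := by
  funext i
  refine Fin.cases ?_ (fun i => ?_) i
  · simp [hat]
  · refine Fin.cases ?_ (fun i => ?_) i
    · simp [hat]
    · simp [hat]

theorem hat_smul (c : F) (x : Fin n → F) : hat (c • x) = c • hat x := by
  funext i
  refine Fin.cases ?_ (fun i => ?_) i
  · simp [hat]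
  · refine Fin.cases ?_ (fun i => ?_) i
    · simp [hat]
    · simp [hat]

theorem hat_ne {x : Fin n → F} (hx : x ≠ 0) : hat x ≠ 0 := by
  intro h
  apply hx
  funext i
  have := congrFun h i.succ.succ
  simpa [hat] using this

theorem act_inv_fix {g : SU n F q} {u : Fin n → F} (h : act g u = u) : act g⁻¹ u = u := by
  have := act_inv_act g u
  rwa [h] at this

theorem act_of_eich {u w x : Fin n → F} {s : F} {g : SU n F q} (h : IsEich g u w s) (hu : hermForm n F q x u = 0)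
    (hw : hermForm n F q x w = 0) : act g x = x := by
  rw [h, hu, hw]
  simp

variable {V : Type*} [AddCommGroup V] [Module ℂ V]

/-- restriction of `ρ g` to a weight space of the transvection group with centre fixed by `g` -/
noncomputable def rW (hF : Fintype.card F = q ^ 2) {s₀ : F} (hs₀ : s₀ ^ q = -s₀) (ρ : Representation ℂ (SU n F q) V)
    {u : Fin n → F} (hu : hermForm n F q u u = 0) (ψ : AddChar (KK hF) ℂ) (g : SU n F q) (hg : act g u = u) :
    wt (TU hF s₀ ρ u) ψ →ₗ[ℂ] wt (TU hF s₀ ρ u) ψ :=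
  (ρ g).restrict (fun _ hv => wt_of_fix hF hs₀ ρ hu hg ψ hv)

theorem coe_rW (hF : Fintype.card F = q ^ 2) {s₀ : F} (hs₀ : s₀ ^ q = -s₀) (ρ : Representation ℂ (SU n F q) V)
    {u : Fin n → F} (hu : hermForm n F q u u = 0) (ψ : AddChar (KK hF) ℂ) (g : SU n F q) (hg : act g u = u)
    (v : wt (TU hF s₀ ρ u) ψ) : ((rW hF hs₀ ρ hu ψ g hg v : wt (TU hF s₀ ρ u) ψ) : V) = ρ g v := rfl

theorem rW_mul (hF : Fintype.card F = q ^ 2) {s₀ : F} (hs₀ : s₀ ^ q = -s₀) (ρ : Representation ℂ (SU n F q) V)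
    {u : Fin n → F} (hu : hermForm n F q u u = 0) (ψ : AddChar (KK hF) ℂ) (g h : SU n F q) (hg : act g u = u)
    (hh : act h u = u) (hgh : act (g * h) u = u) :
    rW hF hs₀ ρ hu ψ g hg * rW hF hs₀ ρ hu ψ h hh = rW hF hs₀ ρ hu ψ (g * h) hgh := by
  ext v
  rw [Module.End.mul_apply, coe_rW, coe_rW, coe_rW, map_mul]; rfl

theorem rW_one (hF : Fintype.card F = q ^ 2) {s₀ : F} (hs₀ : s₀ ^ q = -s₀) (ρ : Representation ℂ (SU n F q) V)
    {u : Fin n → F} (hu : hermForm n F q u u = 0) (ψ : AddChar (KK hF) ℂ) (h : act (1 : SU n F q) u = u) :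
    rW hF hs₀ ρ hu ψ 1 h = 1 := by
  ext v
  rw [coe_rW, map_one]; rfl

theorem rW_congr (hF : Fintype.card F = q ^ 2) {s₀ : F} (hs₀ : s₀ ^ q = -s₀) (ρ : Representation ℂ (SU n F q) V)
    {u : Fin n → F} (hu : hermForm n F q u u = 0) (ψ : AddChar (KK hF) ℂ) {g h : SU n F q} (hgh : g = h)
    (hg : act g u = u) (hh : act h u = u) : rW hF hs₀ ρ hu ψ g hg = rW hF hs₀ ρ hu ψ h hh := by
  subst hgh; rfl

theorem rW_mul_inv (hF : Fintype.card F = q ^ 2) {s₀ : F} (hs₀ : s₀ ^ q = -s₀) (ρ : Representation ℂ (SU n F q) V)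
    {u : Fin n → F} (hu : hermForm n F q u u = 0) (ψ : AddChar (KK hF) ℂ) (g : SU n F q) (hg : act g u = u)
    (hgi : act g⁻¹ u = u) : rW hF hs₀ ρ hu ψ g hg * rW hF hs₀ ρ hu ψ g⁻¹ hgi = 1 := by
  ext v
  rw [Module.End.mul_apply, coe_rW, coe_rW, ← Module.End.mul_apply, ← map_mul, mul_inv_cancel, map_one]; rfl

theorem rW_inv_mul (hF : Fintype.card F = q ^ 2) {s₀ : F} (hs₀ : s₀ ^ q = -s₀) (ρ : Representation ℂ (SU n F q) V)
    {u : Fin n → F} (hu : hermForm n F q u u = 0) (ψ : AddChar (KK hF) ℂ) (g : SU n F q) (hg : act g u = u)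
    (hgi : act g⁻¹ u = u) : rW hF hs₀ ρ hu ψ g⁻¹ hgi * rW hF hs₀ ρ hu ψ g hg = 1 := by
  ext v
  rw [Module.End.mul_apply, coe_rW, coe_rW, ← Module.End.mul_apply, ← map_mul, inv_mul_cancel, map_one]; rfl

theorem rW_T (hF : Fintype.card F = q ^ 2) {s₀ : F} (hs₀ : s₀ ^ q = -s₀) (ρ : Representation ℂ (SU n F q) V)
    {u : Fin n → F} (hu : hermForm n F q u u = 0) (ψ : AddChar (KK hF) ℂ) (c : KK hF)
    (h : act (EE q u 0 (s₀ * c)) u = u) : rW hF hs₀ ρ hu ψ (EE q u 0 (s₀ * c)) h = ψ c • 1 := by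
  ext v
  rw [coe_rW]
  exact v.2 c

theorem exists_ne_of_ne_zero {A : Type*} [AddCommGroup A] {ψ : AddChar A ℂ} (hψ : ψ ≠ 0) : ∃ c, ψ c ≠ 1 := by
  by_contra hcon
  push Not at hcon
  apply hψ
  ext c
  rw [hcon, AddChar.zero_apply]

theorem trace_zero (hF : Fintype.card F = q ^ 2) {s₀ : F} (hs₀ : s₀ ^ q = -s₀) (ρ : Representation ℂ (SU n F q) V)
    {u : Fin n → F} (hu : hermForm n F q u u = 0) (ψ : AddChar (KK hF) ℂ) (C E : SU n F q) (c : KK hF)
    (hC : act C u = u) (hE : act E u = u) (hc : ψ c ≠ 1) (h : E * C = EE q u 0 (s₀ * c) * (C * E)) :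
    LinearMap.trace ℂ _ (rW hF hs₀ ρ hu ψ C hC) = 0 := by
  have hmulfix : ∀ g h : SU n F q, act g u = u → act h u = u → act (g * h) u = u := by
    intro g h hg hh
    rw [act_mul, hh, hg]
  have hEi : act E⁻¹ u = u := act_inv_fix hE
  have hTfix : act (EE q u 0 (s₀ * c)) u = u :=
    act_of_eich (isEich_T hF hu (skew_mul hF hs₀ c)) hu (hermForm_zero_right hF u)
  have e1 : rW hF hs₀ ρ hu ψ E hE * rW hF hs₀ ρ hu ψ E⁻¹ hEi = 1 :=
    rW_mul_inv hF hs₀ ρ hu ψ _ _ _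
  have e2 : rW hF hs₀ ρ hu ψ E⁻¹ hEi * rW hF hs₀ ρ hu ψ E hE = 1 :=
    rW_inv_mul hF hs₀ ρ hu ψ _ _ _
  have e3 : rW hF hs₀ ρ hu ψ E hE * rW hF hs₀ ρ hu ψ C hC =
      ψ c • (rW hF hs₀ ρ hu ψ C hC * rW hF hs₀ ρ hu ψ E hE) := by
    rw [rW_mul hF hs₀ ρ hu ψ C E hC hE (hmulfix _ _ hC hE), rW_mul hF hs₀ ρ hu ψ E C hE hC (hmulfix _ _ hE hC),
      rW_congr hF hs₀ ρ hu ψ h _ (hmulfix _ _ hTfix (hmulfix _ _ hC hE)),
      ← rW_mul hF hs₀ ρ hu ψ _ _ hTfix (hmulfix _ _ hC hE), rW_T, smul_mul_assoc, one_mul]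
  exact trace_eq_zero_of_twist _ _ _ (ψ c) e1 e2 hc e3

/-- the commutator relation in the Heisenberg group -/
theorem exists_twist (hF : Fintype.card F = q ^ 2) {s₀ : F} (hs₀ : s₀ ^ q = -s₀) {u : Fin (n + 2) → F}
    (hu : hermForm (n + 2) F q u u = 0)
    (hperp : ∀ x : Fin n → F, hermForm (n + 2) F q u (hat x) = 0) (c : KK hF) {s : (Fin n → F) → F}
    (hs : ∀ x, s x + s x ^ q = -hermForm (n + 2) F q (hat x) (hat x)) {x y : Fin n → F} (hxy : x ≠ y) :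
    ∃ z : Fin n → F, EE q u (hat z) (s z) * (EE q u (hat x) (s x) * (EE q u (hat y) (s y))⁻¹) =
      EE q u 0 (s₀ * c) * ((EE q u (hat x) (s x) * (EE q u (hat y) (s y))⁻¹) * EE q u (hat z) (s z)) := by
  have hE : ∀ x, IsEich (EE q u (hat x) (s x)) u (hat x) (s x) := fun x => isEich_EE hF hu (hperp x) (hs x)
  set C := EE q u (hat x) (s x) * (EE q u (hat y) (s y))⁻¹ with hC
  have hinv := (hE y).inv hF hu (hperp y) (hs y)
  have hperpn : hermForm (n + 2) F q u (-hat y) = 0 := by rw [hermForm_neg_right hF, hperp, neg_zero]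
  have hC1 := (hE x).mul hF hu (hperp x) hperpn hinv
  rw [← sub_eq_add_neg, ← hat_sub] at hC1
  have hd : x - y ≠ 0 := sub_ne_zero.2 hxy
  obtain ⟨t, ht⟩ := exists_sub_eq hF (skew_mul hF hs₀ c)
  obtain ⟨z₀, hz₀⟩ := exists_form_ne hF hd
  obtain ⟨z, hz⟩ : ∃ z : Fin n → F, hermForm n F q z (x - y) = -t := by
    have hz₁ : hermForm n F q z₀ (x - y) ≠ 0 := fun h => hz₀ ((hermForm_eq_zero_comm hF).1 h)
    refine ⟨(-t * (hermForm n F q z₀ (x - y))⁻¹) • z₀, ?_⟩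
    rw [hermForm_smul_left, inv_mul_cancel_right₀ hz₁]
  have hCs : ∃ s', s' + s' ^ q = -hermForm (n + 2) F q (hat (x - y)) (hat (x - y)) ∧ IsEich C u (hat (x - y)) s' := by
    refine ⟨_, ?_, hC1⟩
    have h1 := hs x
    have h2 := hs y
    have h3 := pow_q_pow_q hF (s y)
    rw [hermForm_neg_left]
    simp only [sub_pow_q hF, add_pow_q hF, neg_pow_q hF, hat_sub, hermForm_sub_left, hermForm_sub_right hF,
      hermForm_symm hF]
    rw [h3]
    linear_combination h1 + h2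
  obtain ⟨s', hs', hC2⟩ := hCs
  have hcomm := (hE z).commutator hF hu (hperp z) (hperp (x - y)) (hs z) hs' hC2
  have hκ : hermForm (n + 2) F q (hat z) (hat (x - y)) - hermForm (n + 2) F q (hat (x - y)) (hat z) = s₀ * c := by
    rw [hat_form hF, hat_form hF, hz, ← hermForm_symm hF z (x - y), hz, neg_pow_q hF]
    linear_combination ht
  rw [hκ] at hcomm
  have hTc := hcomm.unique (isEich_T hF hu (skew_mul hF hs₀ c))
  refine ⟨z, ?_⟩
  rw [← hTc]; group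

/-- nontrivial weight spaces of the centre of the Heisenberg group are large -/
theorem wt_dim (hF : Fintype.card F = q ^ 2) {s₀ : F} (hs₀ : s₀ ^ q = -s₀) [FiniteDimensional ℂ V]
    (ρ : Representation ℂ (SU (n + 2) F q) V) {u : Fin (n + 2) → F} (hu : hermForm (n + 2) F q u u = 0)
    (hperp : ∀ x : Fin n → F, hermForm (n + 2) F q u (hat x) = 0) {ψ : AddChar (KK hF) ℂ} (hψ : ψ ≠ 0)
    (hne : wt (TU hF s₀ ρ u) ψ ≠ ⊥) : q ^ n ≤ finrank ℂ (wt (TU hF s₀ ρ u) ψ) := by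
  classical
  have hpos : 0 < finrank ℂ (wt (TU hF s₀ ρ u) ψ) := by
    have := (Submodule.one_le_finrank_iff).2 hne
    omega
  have hs : ∀ x : Fin n → F, ∃ s : F, s + s ^ q = -hermForm (n + 2) F q (hat x) (hat x) := by
    intro x
    exact exists_trace_eq hF (by rw [neg_pow_q hF, hermForm_self_pow_q hF])
  choose s hs using hs
  have hfixE : ∀ x, act (EE q u (hat x) (s x)) u = u := fun x =>
    act_of_eich (isEich_EE hF hu (hperp x) (hs x)) hu (hperp x)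
  have hfixEi : ∀ x, act (EE q u (hat x) (s x))⁻¹ u = u := fun x => act_inv_fix (hfixE x)
  have hmulfix : ∀ g h : SU (n + 2) F q, act g u = u → act h u = u → act (g * h) u = u := by
    intro g h hg hh
    rw [act_mul, hh, hg]
  have h0 : ∀ x y : Fin n → F, x ≠ y → LinearMap.trace ℂ (wt (TU hF s₀ ρ u) ψ)
      (rW hF hs₀ ρ hu ψ (EE q u (hat x) (s x)) (hfixE x) * rW hF hs₀ ρ hu ψ (EE q u (hat y) (s y))⁻¹ (hfixEi y)) = 0 := by
    intro x y hxy
    obtain ⟨c, hc⟩ := exists_ne_of_ne_zero hψ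
    obtain ⟨z, hz⟩ := exists_twist hF hs₀ hu hperp c hs hxy
    exact (congrArg (LinearMap.trace ℂ _) (rW_mul hF hs₀ ρ hu ψ _ _ _ _ (hmulfix _ _ (hfixE x) (hfixEi y)))).trans
      (trace_zero hF hs₀ ρ hu ψ _ _ c _ (hfixE z) hc hz)
  have h1 : ∀ x : Fin n → F, LinearMap.trace ℂ (wt (TU hF s₀ ρ u) ψ)
      (rW hF hs₀ ρ hu ψ (EE q u (hat x) (s x)) (hfixE x) * rW hF hs₀ ρ hu ψ (EE q u (hat x) (s x))⁻¹ (hfixEi x)) ≠ 0 := by
    intro x
    have e : rW hF hs₀ ρ hu ψ (EE q u (hat x) (s x)) (hfixE x) * rW hF hs₀ ρ hu ψ (EE q u (hat x) (s x))⁻¹ (hfixEi x) = 1 :=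
      rW_mul_inv hF hs₀ ρ hu ψ _ _ _
    have e2 : LinearMap.trace ℂ (wt (TU hF s₀ ρ u) ψ) 1 = (finrank ℂ (wt (TU hF s₀ ρ u) ψ) : ℂ) :=
      LinearMap.trace_one _ _
    have e3 := (congrArg (LinearMap.trace ℂ (wt (TU hF s₀ ρ u) ψ)) e).trans e2
    intro h4
    have h5 := e3.symm.trans h4
    exact hpos.ne' (Nat.cast_eq_zero.1 h5)
  have key := card_le_sq_of_trace (X := Fin n → F) (V := wt (TU hF s₀ ρ u) ψ) _ _ h0 h1
  rw [Fintype.card_fun, hF, Fintype.card_fin, ← pow_mul, mul_comm, pow_mul] at key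
  have h2 : (q ^ n) ^ 2 ≤ finrank ℂ (wt (TU hF s₀ ρ u) ψ) ^ 2 := key
  exact (Nat.pow_le_pow_iff_left (by norm_num)).1 h2

end Cfsg.Agent.LSU
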