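import Cfsg.Agent.LSU.Torus

/-!
The Landazuri–Seitz bound for `SU_n(q)`.
-/

set_option autoImplicit false
set_option linter.unusedSectionVars false

universe v

namespace Cfsg.Agent.LSU

open Module Matrix Cfsg.Agent.Uni Cfsg.Agent.H39

variable {F : Type*} [Field F] [Fintype F] {q n : ℕ}

/-- the bound -/
def BB (q : ℕ) : ℕ → ℕ
  | 0 => 0
  | 1 => 0
  | (n + 2) => (q - 1) * q ^ n + BB q n

theorem BB_closed {q : ℕ} (hq : 1 ≤ q) (n : ℕ) : (q + 1) * BB q n + (if Odd n then q else 1) = q ^ n := by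
  induction n using Nat.twoStepInduction with
  | zero => simp [BB]
  | one => simp [BB]
  | more n ih _ =>
    have h : (Odd (n + 2)) = Odd n := by
      simp [Nat.odd_add]
    simp only [h]
    obtain ⟨r, rfl⟩ := Nat.exists_eq_add_of_le hq
    have e : 1 + r - 1 = r := by omega
    rw [BB, e, pow_add, ← ih]
    generalize (1 + r) ^ n = X at ih ⊢
    rw [mul_add, add_assoc, ih]
    ring

section rep
variable {V : Type v} [AddCommGroup V] [Module ℂ V]

theorem wt_zero_top_iff (hF : Fintype.card F = q ^ 2) {s₀ : F} (ρ : Representation ℂ (SU n F q) V) (u : Fin n → F) :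
    wt (TU hF s₀ ρ u) 0 = ⊤ ↔ ∀ c v, TU hF s₀ ρ u c v = v := by
  rw [eq_top_iff]
  constructor
  · intro h c v
    exact mem_wt_zero.1 (h Submodule.mem_top) c
  · intro h v _
    exact mem_wt_zero.2 fun c => h c v

theorem wt_le_conj (hF : Fintype.card F = q ^ 2) {s₀ : F} (hs₀ : s₀ ^ q = -s₀) (ρ : Representation ℂ (SU n F q) V)
    {u w : Fin n → F} (hu : hermForm n F q u u = 0) (hw : hermForm n F q w w = 0) (g : SU n F q)
    (h : wt (TU hF s₀ ρ (act g u)) 0 ≤ wt (TU hF s₀ ρ (act g w)) 0) :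
    wt (TU hF s₀ ρ u) 0 ≤ wt (TU hF s₀ ρ w) 0 := by
  intro v hv
  exact (wt_conj hF hs₀ ρ hw g 0).1 (h ((wt_conj hF hs₀ ρ hu g 0).2 hv))

theorem wt_top_conj (hF : Fintype.card F = q ^ 2) {s₀ : F} (hs₀ : s₀ ^ q = -s₀) (ρ : Representation ℂ (SU n F q) V)
    {u : Fin n → F} (hu : hermForm n F q u u = 0) (g : SU n F q) (h : wt (TU hF s₀ ρ (act g u)) 0 = ⊤) :
    wt (TU hF s₀ ρ u) 0 = ⊤ := by
  rw [eq_top_iff]
  intro v _
  exact (wt_conj hF hs₀ ρ hu g 0).1 (h ▸ Submodule.mem_top)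

/-- the fixed space of the standard transvection group is not centralised by the next one -/
theorem exists_hat_not_le (hF : Fintype.card F = q ^ 2) {s₀ : F} (hs₀ : s₀ ^ q = -s₀) {δ : F} (hδ : δ ^ (q + 1) = -1)
    (hn : 2 ≤ n) (ρ : Representation ℂ (SU (n + 2) F q) V) (hnt : wt (TU hF s₀ ρ (u₀ n δ)) 0 ≠ ⊤) :
    ∃ x : Fin n → F, x ≠ 0 ∧ hermForm n F q x x = 0 ∧
      ¬ wt (TU hF s₀ ρ (u₀ n δ)) 0 ≤ wt (TU hF s₀ ρ (hat x)) 0 := by
  by_contra hcon
  push Not at hcon
  have hu := u₀_form (n := n) hF hδ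
  -- all isotropic vectors orthogonal to `u₀`
  have h1 : ∀ w : Fin (n + 2) → F, w ≠ 0 → hermForm (n + 2) F q w w = 0 → hermForm (n + 2) F q w (u₀ n δ) = 0 →
      wt (TU hF s₀ ρ (u₀ n δ)) 0 ≤ wt (TU hF s₀ ρ w) 0 := by
    intro w hw0 hww hwu
    have e := perp_u₀ hF hδ hwu
    set α := w 0 with hα
    set x : Fin n → F := fun i => w i.succ.succ with hx
    have hxx : hermForm n F q x x = 0 := by
      rw [← hat_form hF x x]
      rw [e] at hww
      rw [hermForm_add_left, hermForm_add_right hF, hermForm_add_right hF, hermForm_smul_left, hermForm_smul_right, hu,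
        hermForm_smul_left, u₀_hat hF, hermForm_smul_right, hat_u₀ hF] at hww
      linear_combination hww
    by_cases hx0 : x = 0
    · have hα0 : α ≠ 0 := by
        intro h
        apply hw0
        rw [e, h, hx0, zero_smul, zero_add]
        funext i
        refine Fin.cases rfl (fun i => ?_) i
        refine Fin.cases rfl (fun i => rfl) i
      have e2 : w = α • u₀ n δ := by
        rw [e, hx0]
        have : hat (0 : Fin n → F) = 0 := by
          funext i
          refine Fin.cases rfl (fun i => ?_) i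
          refine Fin.cases rfl (fun i => rfl) i
        rw [this, add_zero]
      rw [e2, wt_zero_smul hF hs₀ ρ hu hα0]
    · obtain ⟨y₀, hy₀⟩ := exists_form_ne hF hx0
      set y : Fin n → F := ((-α * (hermForm n F q x y₀)⁻¹) ^ q) • y₀ with hy
      have hxy : hermForm n F q x y = -α := by
        rw [hy, hermForm_smul_right, pow_q_pow_q hF, inv_mul_cancel_right₀ hy₀]
      obtain ⟨s, g, hs, hg⟩ := exists_eich' hF (u₀ n δ) (hat y) hu (u₀_hat hF δ y)
      have hgu : act g (u₀ n δ) = u₀ n δ := act_of_eich hg hu (u₀_hat hF δ y)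
      have hgx : act g (hat x) = w := by
        rw [hg, hat_u₀ hF, hat_form hF, hxy, e]
        module
      have hhx : hermForm (n + 2) F q (hat x) (hat x) = 0 := by rw [hat_form hF, hxx]
      intro v hv
      have h2 : ρ g⁻¹ v ∈ wt (TU hF s₀ ρ (u₀ n δ)) 0 := wt_of_fix hF hs₀ ρ hu (act_inv_fix hgu) 0 hv
      have h3 := hcon x hx0 hxx h2
      have h4 := (wt_conj hF hs₀ ρ hhx g 0).2 h3
      rw [hgx, ← Module.End.mul_apply, ← map_mul, mul_inv_cancel, map_one] at h4
      exact h4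
  -- all orthogonal pairs
  have h2 : ∀ u w : Fin (n + 2) → F, u ≠ 0 → w ≠ 0 → hermForm (n + 2) F q u u = 0 → hermForm (n + 2) F q w w = 0 →
      hermForm (n + 2) F q w u = 0 → wt (TU hF s₀ ρ u) 0 ≤ wt (TU hF s₀ ρ w) 0 := by
    intro u w hu0 hw0 huu hww hwu
    obtain ⟨t, _, c, hc, htu⟩ := exists_TT_isotropic hF hu0 (u₀_ne (n := n) δ) huu hu
    apply wt_le_conj hF hs₀ ρ huu hww t
    rw [htu, wt_zero_smul hF hs₀ ρ hu hc]
    apply h1 _ (act_ne_zero hw0) (by rw [act_form, hww])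
    have h3 : hermForm (n + 2) F q (act t w) (act t u) = 0 := by rw [act_form, hwu]
    rw [htu, hermForm_smul_right] at h3
    exact (mul_eq_zero.1 h3).resolve_left (pow_ne_zero _ hc)
  -- a totally isotropic plane
  obtain ⟨x, hx0, hxx⟩ := exists_isotropic (F := F) (n := n) hF hn
  have hhx : hermForm (n + 2) F q (hat x) (hat x) = 0 := by rw [hat_form hF, hxx]
  apply hnt
  refine top_of_plane hF hs₀ hu hhx (u₀_hat hF δ x) ρ _ le_rfl ?_
  intro y
  have hw0 : y • u₀ n δ + hat x ≠ 0 := by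
    intro h
    apply hat_ne hx0
    have h0 := congrFun h 0
    have hy : y = 0 := by simpa [u₀, hat] using h0
    rw [hy, zero_smul, zero_add] at h
    exact h
  have hux := u₀_hat hF δ x
  have hxu := hat_u₀ hF δ x
  apply h2 _ _ hw0 (u₀_ne δ) _ hu
  · rw [hermForm_add_right hF, hermForm_smul_right, hu, hux]; ring
  · rw [hermForm_add_left, hermForm_add_right hF, hermForm_add_right hF]
    simp only [hermForm_smul_left, hermForm_smul_right, hu, hhx, hux, hxu, mul_zero, add_zero]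

/-- the representation of `SU_n` on the fixed space of the standard transvection group of `SU_{n+2}` -/
noncomputable def subRep (hF : Fintype.card F = q ^ 2) {s₀ : F} (hs₀ : s₀ ^ q = -s₀) {δ : F} (hδ : δ ^ (q + 1) = -1)
    (ρ : Representation ℂ (SU (n + 2) F q) V) :
    Representation ℂ (SU n F q) (wt (TU hF s₀ ρ (u₀ n δ)) 0) where
  toFun g := rW hF hs₀ ρ (u₀_form hF hδ) 0 (emb (emb g)) (by
    rw [u₀, act_emb, act_emb, act_zero])
  map_one' := by
    ext v
    have h : emb (emb (1 : SU n F q)) = 1 := by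
      have h1 : emb (1 : SU n F q) = 1 := (embHom n F q).map_one
      rw [h1]
      exact (embHom (n + 1) F q).map_one
    rw [coe_rW, h, map_one]; rfl
  map_mul' g h := by
    ext v
    rw [Module.End.mul_apply, coe_rW, coe_rW, coe_rW, emb_mul, emb_mul, map_mul]; rfl

theorem coe_subRep (hF : Fintype.card F = q ^ 2) {s₀ : F} (hs₀ : s₀ ^ q = -s₀) {δ : F} (hδ : δ ^ (q + 1) = -1)
    (ρ : Representation ℂ (SU (n + 2) F q) V) (g : SU n F q) (v : wt (TU hF s₀ ρ (u₀ n δ)) 0) :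
    ((subRep hF hs₀ hδ ρ g v : wt (TU hF s₀ ρ (u₀ n δ)) 0) : V) = ρ (emb (emb g)) v := rfl

theorem emb_emb_T (hF : Fintype.card F = q ^ 2) {s : F} (hs : s ^ q = -s) {x : Fin n → F}
    (hx : hermForm n F q x x = 0) : emb (emb (EE q x 0 s)) = EE q (hat x) 0 s := by
  have hhx : hermForm (n + 2) F q (hat x) (hat x) = 0 := by rw [hat_form hF, hx]
  refine IsEich.unique (u := hat x) (w := 0) (s := s) ?_ (isEich_T hF hhx hs)
  rw [isEich_zero_iff hF]
  intro z
  have e : z = Fin.cons (z 0) (Fin.cons (z 1) (fun i => z i.succ.succ)) := by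
    funext i
    refine Fin.cases rfl (fun i => ?_) i
    refine Fin.cases rfl (fun i => rfl) i
  have h1 := (isEich_zero_iff hF _ _ _).1 (isEich_T hF hx hs)
  have h2 : hermForm (n + 2) F q z (hat x) = hermForm n F q (fun i => z i.succ.succ) x := by
    rw [e, hat, hermForm_cons, hermForm_cons, zero_pow_q hF]
    simp
  rw [h2]
  conv_lhs => rw [e]
  rw [act_emb, act_emb, h1]
  funext i
  refine Fin.cases ?_ (fun i => ?_) i
  · simp [hat]
  · refine Fin.cases ?_ (fun i => ?_) i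
    · simp [hat]
    · simp [hat]

theorem coe_TU_subRep (hF : Fintype.card F = q ^ 2) {s₀ : F} (hs₀ : s₀ ^ q = -s₀) {δ : F} (hδ : δ ^ (q + 1) = -1)
    (ρ : Representation ℂ (SU (n + 2) F q) V) {x : Fin n → F} (hx : hermForm n F q x x = 0) (c : KK hF)
    (v : wt (TU hF s₀ ρ (u₀ n δ)) 0) :
    ((TU hF s₀ (subRep hF hs₀ hδ ρ) x c v : wt (TU hF s₀ ρ (u₀ n δ)) 0) : V) = TU hF s₀ ρ (hat x) c v := by
  rw [TU, coe_subRep, emb_emb_T hF (skew_mul hF hs₀ c) hx]; rfl

end rep

/-- torus action gives all nontrivial weights of the standard transvection group -/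
theorem wt_shift_ne_bot (hF : Fintype.card F = q ^ 2) {s₀ : F} (hs₀ : s₀ ^ q = -s₀) {δ : F} (hδ : δ ^ (q + 1) = -1)
    (hn : 1 ≤ n) {V : Type v} [AddCommGroup V] [Module ℂ V] (ρ : Representation ℂ (SU (n + 2) F q) V)
    {ψ : AddChar (KK hF) ℂ} (hψ : wt (TU hF s₀ ρ (u₀ n δ)) ψ ≠ ⊥) {c : KK hF} (hc : c ≠ 0) :
    wt (TU hF s₀ ρ (u₀ n δ)) (ψ.mulShift c) ≠ ⊥ := by
  obtain ⟨α, hα⟩ := exists_nm hF c⁻¹
  have hα0 : α ≠ 0 := by
    rintro rfl
    apply inv_ne_zero hc
    rw [← hα]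
    apply Subtype.ext
    rw [coe_nm, zero_pow (by omega)]; rfl
  obtain ⟨g, hg⟩ := exists_scale (n := n) hF hn hδ hα0
  obtain ⟨v, hv, hv0⟩ := (Submodule.ne_bot_iff _).1 hψ
  have hu := u₀_form (n := n) hF hδ
  have h1 := (wt_conj hF hs₀ ρ hu g ψ).2 hv
  rw [hg, wt_smul hF hs₀ ρ hu hα0, hα, inv_inv] at h1
  intro hbot
  rw [hbot, Submodule.mem_bot] at h1
  apply hv0
  have h3 : ρ g⁻¹ (ρ g v) = v := by
    rw [← Module.End.mul_apply, ← map_mul, inv_mul_cancel, map_one]; rfl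
  rw [← h3, h1, map_zero]

theorem exists_minus_one (hF : Fintype.card F = q ^ 2) : ∃ δ : F, δ ^ (q + 1) = -1 :=
  exists_norm_eq hF (by rw [neg_pow_q hF, one_pow])

/-- the standard hyperbolic partner of `u₀` -/
theorem exists_partner (hF : Fintype.card F = q ^ 2) {δ : F} (hδ : δ ^ (q + 1) = -1) :
    ∃ v : Fin (n + 2) → F, Hyp q (u₀ n δ) v ∧ ∀ x : Fin n → F, hermForm (n + 2) F q v (hat x) = 0 := by
  obtain ⟨c, hc⟩ := exists_trace_eq hF (c := (-1 : F)) (by rw [neg_pow_q hF, one_pow])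
  rw [pow_succ] at hδ
  refine ⟨Fin.cons (c + 1) (Fin.cons (δ * c) 0), ⟨u₀_form hF (by rw [pow_succ]; exact hδ), ?_, ?_⟩, ?_⟩
  · rw [hermForm_cons, hermForm_cons, hermForm_zero_left, add_pow_q hF, one_pow, mul_pow]
    linear_combination hc + (c * c ^ q) * hδ
  · rw [u₀, hermForm_cons, hermForm_cons, hermForm_zero_left, add_pow_q hF, one_pow, mul_pow]
    linear_combination (c ^ q) * hδ
  · intro x
    rw [hat, hermForm_cons, hermForm_cons, hermForm_zero_left, zero_pow_q hF]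
    ring

/-- Landazuri–Seitz bound -/
theorem bound (hF : Fintype.card F = q ^ 2) {s₀ : F} (hs₀ : s₀ ^ q = -s₀) :
    ∀ (n : ℕ), 3 ≤ n → ∀ (V : Type v) [AddCommGroup V] [Module ℂ V] [FiniteDimensional ℂ V]
      (ρ : Representation ℂ (SU n F q) V) (u : Fin n → F), hermForm n F q u u = 0 → u ≠ 0 →
      wt (TU hF s₀ ρ u) 0 ≠ ⊤ → BB q n ≤ finrank ℂ V := by
  intro N
  induction N using Nat.strong_induction_on with
  | _ N ih =>
  intro hN V _ _ _ ρ u hu hu0 hnt
  obtain ⟨n, rfl⟩ : ∃ n, N = n + 2 := ⟨N - 2, by omega⟩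
  have hn : 1 ≤ n := by omega
  obtain ⟨δ, hδ⟩ := exists_minus_one hF
  have hu₀ := u₀_form (n := n) hF hδ
  -- the standard one is nontrivial
  have hnt0 : wt (TU hF s₀ ρ (u₀ n δ)) 0 ≠ ⊤ := by
    intro h
    apply hnt
    obtain ⟨t, _, c, hc, htu⟩ := exists_TT_isotropic hF hu0 (u₀_ne (n := n) δ) hu hu₀
    apply wt_top_conj hF hs₀ ρ hu t
    rw [htu, wt_zero_smul hF hs₀ ρ hu₀ hc, h]
  have hnt1 : ∃ a v, TU hF s₀ ρ (u₀ n δ) a v ≠ v := by
    by_contra hcon
    push Not at hcon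
    exact hnt0 ((wt_zero_top_iff hF ρ _).2 hcon)
  obtain ⟨ψ, hψ0, hψ⟩ := exists_wt_ne_bot (TU hF s₀ ρ (u₀ n δ)) (TU_zero hF hs₀ ρ hu₀) (TU_add hF hs₀ ρ hu₀) hnt1
  have h1 := finrank_ge (TU hF s₀ ρ (u₀ n δ)) (TU_zero hF hs₀ ρ hu₀) (TU_add hF hs₀ ρ hu₀) hψ0 (q ^ n) (by
    intro c hc
    have hne := wt_shift_ne_bot hF hs₀ hδ hn ρ hψ hc
    refine wt_dim hF hs₀ ρ hu₀ (u₀_hat hF δ) ?_ hne
    have hprim := AddChar.IsPrimitive.of_ne_one (ψ := ψ) (by rwa [AddChar.one_eq_zero])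
    have := hprim hc
    rwa [AddChar.one_eq_zero] at this)
  rw [card_KK hF] at h1
  have h2 : BB q n ≤ finrank ℂ (wt (TU hF s₀ ρ (u₀ n δ)) 0) := by
    rcases Nat.lt_or_ge n 2 with h | h
    · have : n = 1 := by omega
      subst this
      simp [BB]
    · obtain ⟨x, hx0, hxx, hx⟩ := exists_hat_not_le hF hs₀ hδ h ρ hnt0
      have hnt2 : wt (TU hF s₀ (subRep hF hs₀ hδ ρ) x) 0 ≠ ⊤ := by
        intro htop
        apply hx
        intro v hv
        rw [mem_wt_zero]
        intro c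
        have := (wt_zero_top_iff hF _ _).1 htop c ⟨v, hv⟩
        have h3 := congrArg Subtype.val this
        rw [coe_TU_subRep hF hs₀ hδ ρ hxx] at h3
        exact h3
      rcases Nat.lt_or_ge n 3 with h' | h'
      · have hn2 : n = 2 := by omega
        subst hn2
        -- all nontrivial characters of the second transvection group
        have hnt3 : ∃ a v, TU hF s₀ (subRep hF hs₀ hδ ρ) x a v ≠ v := by
          by_contra hcon
          push Not at hcon
          exact hnt2 ((wt_zero_top_iff hF _ _).2 hcon)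
        obtain ⟨φ, hφ0, hφ⟩ := exists_wt_ne_bot (TU hF s₀ (subRep hF hs₀ hδ ρ) x) (TU_zero hF hs₀ _ hxx)
          (TU_add hF hs₀ _ hxx) hnt3
        have h3 := finrank_ge (TU hF s₀ (subRep hF hs₀ hδ ρ) x) (TU_zero hF hs₀ _ hxx) (TU_add hF hs₀ _ hxx) hφ0 1 (by
          intro c hc
          obtain ⟨α, hα⟩ := exists_nm hF c⁻¹
          have hα0 : α ≠ 0 := by
            rintro rfl
            apply inv_ne_zero hc
            rw [← hα]
            apply Subtype.ext
            rw [coe_nm, zero_pow (by omega)]; rfl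
          obtain ⟨v₀, hv₀, hv₀x⟩ := exists_partner (n := 2) hF hδ
          obtain ⟨y, hy⟩ := exists_hyp' hF hx0 hxx
          have hxy : Hyp q (hat x) (hat y) := ⟨by rw [hat_form hF, hxx], by rw [hat_form hF, hy.2.1], by
            rw [hat_form hF, hy.2.2]⟩
          obtain ⟨g, hg1, hg2⟩ := exists_scale_two hF hv₀ hxy (u₀_hat hF δ x) (u₀_hat hF δ y) (hv₀x x)
            (t := α⁻¹) (inv_ne_zero hα0)
          rw [inv_inv] at hg2
          obtain ⟨v, hv, hv0⟩ := (Submodule.ne_bot_iff _).1 hφ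
          have hv1 : (v : V) ∈ wt (TU hF s₀ ρ (hat x)) φ := by
            intro c'
            have := congrArg Subtype.val (hv c')
            rw [coe_TU_subRep hF hs₀ hδ ρ hxx] at this
            exact this
          have hv2 := (wt_conj hF hs₀ ρ hxy.1 g φ).2 hv1
          rw [hg2, wt_smul hF hs₀ ρ hxy.1 hα0, hα, inv_inv] at hv2
          have hv3 := (wt_conj hF hs₀ ρ hu₀ g 0).2 v.2
          rw [hg1, wt_zero_smul hF hs₀ ρ hu₀ (inv_ne_zero hα0)] at hv3
          rw [Nat.one_le_iff_ne_zero, ne_eq, Submodule.finrank_eq_zero]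
          intro hbot
          have hmem : (⟨ρ g v, hv3⟩ : wt (TU hF s₀ ρ (u₀ 2 δ)) 0) ∈ wt (TU hF s₀ (subRep hF hs₀ hδ ρ) x) (φ.mulShift c) := by
            intro c'
            apply Subtype.ext
            rw [coe_TU_subRep hF hs₀ hδ ρ hxx]
            exact hv2 c'
          rw [hbot, Submodule.mem_bot] at hmem
          apply hv0
          apply Subtype.ext
          have h4 : ρ g (v : V) = 0 := congrArg Subtype.val hmem
          have h5 : ρ g⁻¹ (ρ g (v : V)) = v := by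
            rw [← Module.End.mul_apply, ← map_mul, inv_mul_cancel, map_one]; rfl
          rw [← h5, h4, map_zero]; rfl)
        rw [card_KK hF] at h3
        change (q - 1) * q ^ 0 + BB q 0 ≤ _
        simp only [BB, pow_zero, mul_one, add_zero] at h3 ⊢
        omega
      · exact ih n (by omega) h' _ (subRep hF hs₀ hδ ρ) x hxx hx0 hnt2
  change (q - 1) * q ^ n + BB q n ≤ _
  omega

end Cfsg.Agent.LSU
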