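import Cfsg.Agent.LSU.Rep

/-!
The abelian unipotent group attached to a totally isotropic plane: every character is trivial on the transvection group
of some point of the plane.
-/

set_option autoImplicit false
set_option linter.unusedSectionVars false

namespace Cfsg.Agent.LSU

open Module Matrix Cfsg.Agent.Uni Cfsg.Agent.H39

variable {F : Type*} [Field F] [Fintype F] {q n : ℕ}

/-- elements of the unipotent group of the plane `⟨u, u'⟩` -/
def IsA (g : SU n F q) (s₀ : F) (u u' : Fin n → F) (a b t : F) : Prop :=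
  ∀ x, act g x = x + (s₀ * (a * hermForm n F q x u + t * hermForm n F q x u')) • u +
    (s₀ * (b * hermForm n F q x u' + t ^ q * hermForm n F q x u)) • u'

theorem IsA.unique {g g' : SU n F q} {s₀ : F} {u u' : Fin n → F} {a b t : F} (h : IsA g s₀ u u' a b t)
    (h' : IsA g' s₀ u u' a b t) : g = g' := act_ext fun x => by rw [h x, h' x]

theorem IsA.mul (hF : Fintype.card F = q ^ 2) {g g' : SU n F q} {s₀ : F} {u u' : Fin n → F} {a b t a' b' t' : F}
    (hu : hermForm n F q u u = 0) (hu' : hermForm n F q u' u' = 0) (huu : hermForm n F q u u' = 0)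
    (h : IsA g s₀ u u' a b t) (h' : IsA g' s₀ u u' a' b' t') : IsA (g * g') s₀ u u' (a + a') (b + b') (t + t') := by
  have huu2 := (hermForm_eq_zero_comm hF).1 huu
  intro x
  rw [act_mul, h, h']
  simp only [hermForm_add_left, hermForm_smul_left, hu, hu', huu, huu2, mul_zero, add_zero, add_pow_q hF]
  module

theorem exists_isA (hF : Fintype.card F = q ^ 2) {s₀ : F} (hs₀ : s₀ ^ q = -s₀) {u u' : Fin n → F}
    (hu : hermForm n F q u u = 0) (hu' : hermForm n F q u' u' = 0) (huu : hermForm n F q u u' = 0)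
    (a b : KK hF) (t : F) : ∃ g : SU n F q, IsA g s₀ u u' a b t := by
  have h1 : IsEich (EE q u ((s₀ * t ^ q) • u') (s₀ * a)) u ((s₀ * t ^ q) • u') (s₀ * a) := by
    refine isEich_EE hF hu (by rw [hermForm_smul_right, huu, mul_zero]) ?_
    rw [skew_mul hF hs₀, hermForm_smul_left, hermForm_smul_right, hu']
    ring
  have h2 := isEich_T hF hu' (skew_mul hF hs₀ b)
  have huu2 := (hermForm_eq_zero_comm hF).1 huu
  refine ⟨EE q u ((s₀ * t ^ q) • u') (s₀ * a) * EE q u' 0 (s₀ * b), fun x => ?_⟩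
  rw [act_mul, (isEich_zero_iff hF _ _ _).1 h2, h1]
  simp only [hermForm_add_left, hermForm_smul_left, hermForm_smul_right, hu', huu2, mul_zero, add_zero, mul_pow,
    pow_q_pow_q hF, hs₀]
  module

open Classical in
/-- the elements as a function -/
noncomputable def GA (hF : Fintype.card F = q ^ 2) (s₀ : F) (u u' : Fin n → F) (x : KK hF × KK hF × F) : SU n F q :=
  if h : ∃ g : SU n F q, IsA g s₀ u u' x.1 x.2.1 x.2.2 then h.choose else 1

theorem isA_GA (hF : Fintype.card F = q ^ 2) {s₀ : F} (hs₀ : s₀ ^ q = -s₀) {u u' : Fin n → F}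
    (hu : hermForm n F q u u = 0) (hu' : hermForm n F q u' u' = 0) (huu : hermForm n F q u u' = 0)
    (x : KK hF × KK hF × F) : IsA (GA hF s₀ u u' x) s₀ u u' x.1 x.2.1 x.2.2 := by
  have h := exists_isA hF hs₀ hu hu' huu x.1 x.2.1 x.2.2
  unfold GA
  rw [dif_pos h]
  exact h.choose_spec

theorem GA_add (hF : Fintype.card F = q ^ 2) {s₀ : F} (hs₀ : s₀ ^ q = -s₀) {u u' : Fin n → F}
    (hu : hermForm n F q u u = 0) (hu' : hermForm n F q u' u' = 0) (huu : hermForm n F q u u' = 0)
    (x y : KK hF × KK hF × F) : GA hF s₀ u u' (x + y) = GA hF s₀ u u' x * GA hF s₀ u u' y :=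
  (isA_GA hF hs₀ hu hu' huu (x + y)).unique
    ((isA_GA hF hs₀ hu hu' huu x).mul hF hu hu' huu (isA_GA hF hs₀ hu hu' huu y))

theorem one_of_idem {G : Type*} [Group G] {a : G} (h : a = a * a) : a = 1 := left_eq_mul.1 h

theorem GA_zero (hF : Fintype.card F = q ^ 2) {s₀ : F} (hs₀ : s₀ ^ q = -s₀) {u u' : Fin n → F}
    (hu : hermForm n F q u u = 0) (hu' : hermForm n F q u' u' = 0) (huu : hermForm n F q u u' = 0) :
    GA hF s₀ u u' 0 = 1 := by
  have h := GA_add hF hs₀ hu hu' huu 0 0
  apply one_of_idem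
  rwa [add_zero] at h

theorem T_eq_GA (hF : Fintype.card F = q ^ 2) {s₀ : F} (hs₀ : s₀ ^ q = -s₀) {u u' : Fin n → F}
    (hu : hermForm n F q u u = 0) (hu' : hermForm n F q u' u' = 0) (huu : hermForm n F q u u' = 0) (c : KK hF) :
    EE q u 0 (s₀ * c) = GA hF s₀ u u' (c, 0, 0) := by
  refine IsA.unique (s₀ := s₀) (u := u) (u' := u') (a := c) (b := 0) (t := 0) ?_ ?_
  · intro x
    rw [(isEich_zero_iff hF _ _ _).1 (isEich_T hF hu (skew_mul hF hs₀ c)), zero_pow_q hF]
    module
  · have := isA_GA hF hs₀ hu hu' huu (c, 0, 0)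
    simpa using this

theorem T_eq_GA' (hF : Fintype.card F = q ^ 2) {s₀ : F} (hs₀ : s₀ ^ q = -s₀) {u u' : Fin n → F}
    (hu : hermForm n F q u u = 0) (hu' : hermForm n F q u' u' = 0) (huu : hermForm n F q u u' = 0) (y : F) (c : KK hF) :
    EE q (y • u + u') 0 (s₀ * c) = GA hF s₀ u u' (c * nm hF y, c, c * y) := by
  have huu2 := (hermForm_eq_zero_comm hF).1 huu
  have hw : hermForm n F q (y • u + u') (y • u + u') = 0 := by
    rw [hermForm_add_left, hermForm_add_right hF, hermForm_add_right hF]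
    simp only [hermForm_smul_left, hermForm_smul_right, hu, hu', huu, huu2, mul_zero, add_zero]
  refine IsA.unique (s₀ := s₀) (u := u) (u' := u') (a := c * nm hF y) (b := c) (t := c * y) ?_ ?_
  · intro x
    rw [(isEich_zero_iff hF _ _ _).1 (isEich_T hF hw (skew_mul hF hs₀ c)), hermForm_add_right hF, hermForm_smul_right,
      mul_pow, (mem_KK hF).1 c.2, coe_nm, pow_succ]
    module
  · have := isA_GA hF hs₀ hu hu' huu (c * nm hF y, c, c * y)
    simpa using this

/-- the trace to the subfield -/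
def tr (hF : Fintype.card F = q ^ 2) (x : F) : KK hF := ⟨x + x ^ q, by
  change (x + x ^ q) ^ q = x + x ^ q
  rw [add_pow_q hF, pow_q_pow_q hF, add_comm]⟩

theorem tr_surj (hF : Fintype.card F = q ^ 2) (c : KK hF) : ∃ x, tr hF x = c := by
  obtain ⟨x, hx⟩ := exists_trace_eq hF c.2
  exact ⟨x, Subtype.ext hx⟩

theorem tr_add (hF : Fintype.card F = q ^ 2) (x y : F) : tr hF (x + y) = tr hF x + tr hF y := by
  apply Subtype.ext
  change x + y + (x + y) ^ q = x + x ^ q + (y + y ^ q)
  rw [add_pow_q hF]; ring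

/-- pull-back of a character of the subfield by the trace -/
noncomputable def trChar (hF : Fintype.card F = q ^ 2) (α : AddChar (KK hF) ℂ) : AddChar F ℂ where
  toFun x := α (tr hF x)
  map_zero_eq_one' := by
    have : tr hF (0 : F) = 0 := by
      apply Subtype.ext
      change (0 : F) + 0 ^ q = 0
      rw [zero_pow_q hF, add_zero]
    rw [this, AddChar.map_zero_eq_one]
  map_add_eq_mul' x y := by rw [tr_add, AddChar.map_add_eq_mul]

theorem trChar_ne (hF : Fintype.card F = q ^ 2) {α : AddChar (KK hF) ℂ} (hα : α ≠ 0) : trChar hF α ≠ 0 := by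
  intro h
  apply hα
  ext c
  obtain ⟨x, rfl⟩ := tr_surj hF c
  exact congrArg (fun φ : AddChar F ℂ => φ x) h

section rep
variable {V : Type*} [AddCommGroup V] [Module ℂ V]

/-- every character of the plane group is trivial on the transvection group of some point of the plane -/
theorem exists_point (hF : Fintype.card F = q ^ 2) (ψ : AddChar (KK hF × KK hF × F) ℂ) :
    (∀ c, ψ (c, 0, 0) = 1) ∨ ∃ y : F, ∀ c : KK hF, ψ (c * nm hF y, c, c * y) = 1 := by
  by_cases hα0 : ∀ c, ψ (c, 0, 0) = 1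
  · exact Or.inl hα0
  right
  have e1 : ∀ a b : KK hF, ∀ t : F, ψ (a, b, t) = ψ (a, 0, 0) * ψ (0, b, 0) * ψ (0, 0, t) := by
    intro a b t
    rw [← AddChar.map_add_eq_mul, ← AddChar.map_add_eq_mul]
    congr 1
    simp
  let α : AddChar (KK hF) ℂ :=
    { toFun := fun c => ψ (c, 0, 0)
      map_zero_eq_one' := AddChar.map_zero_eq_one ψ
      map_add_eq_mul' := fun a b => by
        rw [← AddChar.map_add_eq_mul]; congr 1; simp }
  let β : AddChar (KK hF) ℂ :=
    { toFun := fun c => ψ (0, c, 0)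
      map_zero_eq_one' := AddChar.map_zero_eq_one ψ
      map_add_eq_mul' := fun a b => by
        rw [← AddChar.map_add_eq_mul]; congr 1; simp }
  let γ : AddChar F ℂ :=
    { toFun := fun c => ψ (0, 0, c)
      map_zero_eq_one' := AddChar.map_zero_eq_one ψ
      map_add_eq_mul' := fun a b => by
        rw [← AddChar.map_add_eq_mul]; congr 1; simp }
  have hα : α ≠ 0 := by
    intro h
    apply hα0
    intro c
    exact congrArg (fun φ : AddChar (KK hF) ℂ => φ c) h
  obtain ⟨b, hb⟩ := exists_shift hα β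
  obtain ⟨d, hd⟩ := exists_shift (trChar_ne hF hα) γ
  obtain ⟨z, hz⟩ := exists_nm hF (nm hF d - b)
  refine ⟨z - d ^ q, fun c => ?_⟩
  rw [e1]
  change α (c * nm hF (z - d ^ q)) * β c * γ (c * (z - d ^ q)) = 1
  rw [hb, hd]
  change α (c * nm hF (z - d ^ q)) * α (b * c) * α (tr hF (d * (c * (z - d ^ q)))) = 1
  rw [← AddChar.map_add_eq_mul, ← AddChar.map_add_eq_mul]
  have : c * nm hF (z - d ^ q) + b * c + tr hF (d * (c * (z - d ^ q))) = 0 := by
    apply Subtype.ext
    have hc := (mem_KK hF).1 c.2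
    have hz' : z ^ (q + 1) = d ^ (q + 1) - b := congrArg (fun x : KK hF => (x : F)) hz
    change (c : F) * (z - d ^ q) ^ (q + 1) + b * c + (d * (c * (z - d ^ q)) + (d * (c * (z - d ^ q))) ^ q) = 0
    rw [mul_pow, mul_pow, hc, pow_succ (z - d ^ q), sub_pow_q hF, pow_q_pow_q hF]
    rw [pow_succ, pow_succ] at hz'
    linear_combination (c : F) * hz'
  rw [this, AddChar.map_zero_eq_one]

/-- if all fixed spaces of the transvection groups of the points of a totally isotropic plane lie in `M`, then `M` is everything -/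
theorem top_of_plane (hF : Fintype.card F = q ^ 2) {s₀ : F} (hs₀ : s₀ ^ q = -s₀) {u u' : Fin n → F}
    (hu : hermForm n F q u u = 0) (hu' : hermForm n F q u' u' = 0) (huu : hermForm n F q u u' = 0)
    (ρ : Representation ℂ (SU n F q) V) (M : Submodule ℂ V) (h1 : wt (TU hF s₀ ρ u) 0 ≤ M)
    (h2 : ∀ y : F, wt (TU hF s₀ ρ (y • u + u')) 0 ≤ M) : M = ⊤ := by
  classical
  refine eq_top_of_wt_le (fun x : KK hF × KK hF × F => ρ (GA hF s₀ u u' x)) ?_ ?_ M ?_
  · intro v
    rw [GA_zero hF hs₀ hu hu' huu, map_one]; rfl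
  · intro a b v
    rw [GA_add hF hs₀ hu hu' huu, map_mul]; rfl
  · intro ψ v hv
    rcases exists_point hF ψ with h | ⟨y, hy⟩
    · apply h1
      rw [mem_wt_zero]
      intro c
      rw [TU, T_eq_GA hF hs₀ hu hu' huu]
      have := hv (c, 0, 0)
      rw [this, h, one_smul]
    · apply h2 y
      rw [mem_wt_zero]
      intro c
      rw [TU, T_eq_GA' hF hs₀ hu hu' huu]
      have := hv (c * nm hF y, c, c * y)
      rw [this, hy, one_smul]

end rep

end Cfsg.Agent.LSU
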