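import Cfsg.Agent.LSU.Chars
import Cfsg.Agent.AutPSU.Transv

/-!
Weights of transvection groups in complex representations of `SU_n(q)`.
-/

set_option autoImplicit false
set_option linter.unusedSectionVars false

namespace Cfsg.Agent.LSU

open Module Matrix Cfsg.Agent.Uni Cfsg.Agent.H39

variable {F : Type*} [Field F] [Fintype F] {q n : ℕ}

/-- the subfield of order `q` -/
def KK (hF : Fintype.card F = q ^ 2) : Subfield F where
  carrier := {x | x ^ q = x}
  mul_mem' {a b} ha hb := by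
    change (a * b) ^ q = a * b
    rw [mul_pow, ha, hb]
  one_mem' := one_pow q
  add_mem' {a b} ha hb := by
    change (a + b) ^ q = a + b
    rw [add_pow_q hF, ha, hb]
  zero_mem' := zero_pow_q hF
  neg_mem' {a} ha := by
    change (-a) ^ q = -a
    rw [neg_pow_q hF, ha]
  inv_mem' a ha := by
    change (a⁻¹) ^ q = a⁻¹
    rw [inv_pow, ha]

theorem mem_KK (hF : Fintype.card F = q ^ 2) {x : F} : x ∈ KK hF ↔ x ^ q = x := Iff.rfl

noncomputable instance fintypeKK (hF : Fintype.card F = q ^ 2) : Fintype (KK hF) := Fintype.ofFinite _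

theorem card_KK (hF : Fintype.card F = q ^ 2) : Fintype.card (KK hF) = q := by
  rw [← Nat.card_eq_fintype_card]
  exact card_fixed hF

/-- the norm -/
def nm (hF : Fintype.card F = q ^ 2) (x : F) : KK hF := ⟨x ^ (q + 1), norm_pow_q hF x⟩

@[simp] theorem coe_nm (hF : Fintype.card F = q ^ 2) (x : F) : (nm hF x : F) = x ^ (q + 1) := rfl

theorem exists_nm (hF : Fintype.card F = q ^ 2) (c : KK hF) : ∃ x : F, nm hF x = c := by
  obtain ⟨x, hx⟩ := exists_norm_eq hF c.2
  exact ⟨x, Subtype.ext hx⟩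

open Classical in
/-- Eichler elements -/
noncomputable def EE (q : ℕ) (u w : Fin n → F) (s : F) : SU n F q :=
  if h : ∃ g : SU n F q, IsEich g u w s then h.choose else 1

theorem isEich_EE (hF : Fintype.card F = q ^ 2) {u w : Fin n → F} {s : F}
    (hu : hermForm n F q u u = 0) (huw : hermForm n F q u w = 0)
    (hs : s + s ^ q = -hermForm n F q w w) : IsEich (EE q u w s) u w s := by
  have h := exists_eich hF u w s hu huw hs
  unfold EE
  rw [dif_pos h]
  exact h.choose_spec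

theorem isEich_T (hF : Fintype.card F = q ^ 2) {u : Fin n → F} {s : F}
    (hu : hermForm n F q u u = 0) (hs : s ^ q = -s) : IsEich (EE q u 0 s) u 0 s :=
  isEich_EE hF hu (hermForm_zero_right hF u) (by rw [hermForm_zero_right hF, hs]; ring)

theorem skew_mul (hF : Fintype.card F = q ^ 2) {s₀ : F} (hs₀ : s₀ ^ q = -s₀) (c : KK hF) :
    (s₀ * c) ^ q = -(s₀ * c) := by
  rw [mul_pow, hs₀, (mem_KK hF).1 c.2]; ring

section rep
variable {V : Type*} [AddCommGroup V] [Module ℂ V]

/-- action of the transvection group with centre `u` -/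
noncomputable def TU (hF : Fintype.card F = q ^ 2) (s₀ : F) (ρ : Representation ℂ (SU n F q) V) (u : Fin n → F) :
    KK hF → (V →ₗ[ℂ] V) := fun c => ρ (EE q u 0 (s₀ * c))

variable (hF : Fintype.card F = q ^ 2) {s₀ : F} (hs₀ : s₀ ^ q = -s₀) (ρ : Representation ℂ (SU n F q) V)

include hs₀

theorem TU_zero {u : Fin n → F} (hu : hermForm n F q u u = 0) (v : V) : TU hF s₀ ρ u 0 v = v := by
  have h1 := isEich_T hF hu (skew_mul hF hs₀ 0)
  have h2 : EE q u 0 (s₀ * (0 : KK hF)) = 1 := by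
    have e : s₀ * ((0 : KK hF) : F) = 0 := by simp
    rw [e] at h1 ⊢
    exact h1.unique (isEich_one hF u)
  rw [TU, h2, map_one]; rfl

theorem TU_add {u : Fin n → F} (hu : hermForm n F q u u = 0) (a b : KK hF) (v : V) :
    TU hF s₀ ρ u (a + b) v = TU hF s₀ ρ u a (TU hF s₀ ρ u b v) := by
  have h1 := (isEich_T hF hu (skew_mul hF hs₀ a)).mul hF hu (hermForm_zero_right hF u) (hermForm_zero_right hF u)
    (isEich_T hF hu (skew_mul hF hs₀ b))
  rw [add_zero, hermForm_zero_right hF, sub_zero] at h1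
  have h2 := isEich_T hF hu (skew_mul hF hs₀ (a + b))
  have h3 : EE q u 0 (s₀ * ((a + b : KK hF) : F)) = EE q u 0 (s₀ * a) * EE q u 0 (s₀ * b) := by
    refine h2.unique ?_
    have e : s₀ * ((a + b : KK hF) : F) = s₀ * a + s₀ * b := by push_cast; ring
    rw [e]; exact h1
  rw [TU, TU, TU, h3, map_mul]; rfl

theorem TU_conj {u : Fin n → F} (hu : hermForm n F q u u = 0) (g : SU n F q) (c : KK hF) (v : V) :
    TU hF s₀ ρ (act g u) c (ρ g v) = ρ g (TU hF s₀ ρ u c v) := by
  have h1 := (isEich_T hF hu (skew_mul hF hs₀ c)).conj g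
  rw [act_zero] at h1
  have hgu : hermForm n F q (act g u) (act g u) = 0 := by rw [act_form, hu]
  have h2 : EE q (act g u) 0 (s₀ * c) = g * EE q u 0 (s₀ * c) * g⁻¹ := (isEich_T hF hgu (skew_mul hF hs₀ c)).unique h1
  have h3 : EE q (act g u) 0 (s₀ * c) * g = g * EE q u 0 (s₀ * c) := by
    rw [h2, inv_mul_cancel_right]
  have h4 : ρ (EE q (act g u) 0 (s₀ * c)) * ρ g = ρ g * ρ (EE q u 0 (s₀ * c)) := by
    rw [← map_mul, ← map_mul, h3]
  exact congrArg (fun f : V →ₗ[ℂ] V => f v) h4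

theorem TU_smul {u : Fin n → F} (hu : hermForm n F q u u = 0) (α : F) (c : KK hF) (v : V) :
    TU hF s₀ ρ (α • u) c v = TU hF s₀ ρ u (nm hF α * c) v := by
  have hau : hermForm n F q (α • u) (α • u) = 0 := by
    rw [hermForm_smul_left, hermForm_smul_right, hu, mul_zero, mul_zero]
  have h1 := (isEich_smul hF).1 (isEich_T hF hau (skew_mul hF hs₀ c))
  have h2 := isEich_T hF hu (skew_mul hF hs₀ (nm hF α * c))
  have h3 : EE q (α • u) 0 (s₀ * c) = EE q u 0 (s₀ * ((nm hF α * c : KK hF) : F)) := by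
    refine h1.unique ?_
    have e : s₀ * ((nm hF α * c : KK hF) : F) = s₀ * c * α ^ (q + 1) := by push_cast [coe_nm]; ring
    rw [e] at h2 ⊢
    exact h2
  rw [TU, TU, h3]

/-- conjugation moves weight spaces -/
theorem wt_conj {u : Fin n → F} (hu : hermForm n F q u u = 0) (g : SU n F q) (ψ : AddChar (KK hF) ℂ) {v : V} :
    ρ g v ∈ wt (TU hF s₀ ρ (act g u)) ψ ↔ v ∈ wt (TU hF s₀ ρ u) ψ := by
  rw [mem_wt, mem_wt]
  have hinj : Function.Injective (ρ g) := by
    intro a b hab
    have := congrArg (ρ g⁻¹) hab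
    rwa [← Module.End.mul_apply, ← Module.End.mul_apply, ← map_mul, inv_mul_cancel, map_one] at this
  refine forall_congr' fun c => ?_
  rw [TU_conj hF hs₀ ρ hu, ← map_smul]
  exact hinj.eq_iff

theorem wt_smul {u : Fin n → F} (hu : hermForm n F q u u = 0) {α : F} (hα : α ≠ 0) (ψ : AddChar (KK hF) ℂ) :
    wt (TU hF s₀ ρ (α • u)) ψ = wt (TU hF s₀ ρ u) (ψ.mulShift (nm hF α)⁻¹) := by
  have hα' : nm hF α ≠ 0 := by
    intro h
    have := congrArg (fun z : KK hF => (z : F)) h
    rw [coe_nm] at this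
    exact pow_ne_zero _ hα this
  ext v
  rw [mem_wt, mem_wt]
  constructor
  · intro h c
    have := h ((nm hF α)⁻¹ * c)
    rw [TU_smul hF hs₀ ρ hu, mul_inv_cancel_left₀ hα'] at this
    rw [this, AddChar.mulShift_apply]
  · intro h c
    have := h (nm hF α * c)
    rw [AddChar.mulShift_apply, inv_mul_cancel_left₀ hα'] at this
    rw [TU_smul hF hs₀ ρ hu, this]

theorem wt_zero_smul {u : Fin n → F} (hu : hermForm n F q u u = 0) {α : F} (hα : α ≠ 0) :
    wt (TU hF s₀ ρ (α • u)) 0 = wt (TU hF s₀ ρ u) 0 := by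
  rw [wt_smul hF hs₀ ρ hu hα]
  congr 1

/-- commuting transvections / Eichler elements preserve weight spaces -/
theorem wt_of_fix {u : Fin n → F} (hu : hermForm n F q u u = 0) {g : SU n F q} (hg : act g u = u)
    (ψ : AddChar (KK hF) ℂ) {v : V} (hv : v ∈ wt (TU hF s₀ ρ u) ψ) : ρ g v ∈ wt (TU hF s₀ ρ u) ψ := by
  have := (wt_conj hF hs₀ ρ hu g ψ (v := v)).2 hv
  rwa [hg] at this

end rep

end Cfsg.Agent.LSU
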