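import Cfsg.Agent.LSU.Dim
import Cfsg.Agent.LSU.Plane

/-!
Torus elements in `SU_n(q)`.
-/

set_option autoImplicit false
set_option linter.unusedSectionVars false

namespace Cfsg.Agent.LSU

open Module Matrix Cfsg.Agent.Uni Cfsg.Agent.H39

variable {F : Type*} [Field F] [Fintype F] {q n : ℕ}

/-- the standard isotropic vector -/
def u₀ (n : ℕ) (δ : F) : Fin (n + 2) → F := Fin.cons 1 (Fin.cons δ 0)

theorem u₀_form (hF : Fintype.card F = q ^ 2) {δ : F} (hδ : δ ^ (q + 1) = -1) :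
    hermForm (n + 2) F q (u₀ n δ) (u₀ n δ) = 0 := by
  rw [u₀, hermForm_cons, hermForm_cons, hermForm_zero_left, one_pow]
  rw [pow_succ] at hδ
  linear_combination hδ

theorem u₀_ne (δ : F) : u₀ n δ ≠ 0 := by
  intro h
  have := congrFun h 0
  simp [u₀] at this

theorem u₀_hat (hF : Fintype.card F = q ^ 2) (δ : F) (x : Fin n → F) :
    hermForm (n + 2) F q (u₀ n δ) (hat x) = 0 := by
  rw [u₀, hat, hermForm_cons, hermForm_cons, hermForm_zero_left, zero_pow_q hF]
  ring

theorem hat_u₀ (hF : Fintype.card F = q ^ 2) (δ : F) (x : Fin n → F) :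
    hermForm (n + 2) F q (hat x) (u₀ n δ) = 0 := (hermForm_eq_zero_comm hF).1 (u₀_hat hF δ x)

/-- decomposition of `u₀^⊥` -/
theorem perp_u₀ (hF : Fintype.card F = q ^ 2) {δ : F} (hδ : δ ^ (q + 1) = -1) {w : Fin (n + 2) → F}
    (hw : hermForm (n + 2) F q w (u₀ n δ) = 0) :
    w = (w 0) • u₀ n δ + hat (fun i => w i.succ.succ) := by
  have h1 : w 0 + w 1 * δ ^ q = 0 := by
    have e : w = Fin.cons (w 0) (Fin.cons (w 1) (fun i => w i.succ.succ)) := by
      funext i
      refine Fin.cases rfl (fun i => ?_) i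
      refine Fin.cases rfl (fun i => rfl) i
    rw [e, u₀, hermForm_cons, hermForm_cons, hermForm_zero_right hF, one_pow] at hw
    linear_combination hw
  funext i
  refine Fin.cases ?_ (fun i => ?_) i
  · simp [u₀, hat]
  · refine Fin.cases ?_ (fun i => ?_) i
    · simp only [u₀, hat, Pi.add_apply, Pi.smul_apply, Fin.cons_succ, Fin.cons_zero, smul_eq_mul, add_zero]
      change w 1 = w 0 * δ
      rw [pow_succ] at hδ
      linear_combination (-δ) * h1 + (w 1) * hδ
    · simp [u₀, hat]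

/-- torus elements scaling `u₀` -/
theorem exists_scale (hF : Fintype.card F = q ^ 2) (hn : 1 ≤ n) {δ : F} (hδ : δ ^ (q + 1) = -1) {α : F} (hα : α ≠ 0) :
    ∃ g : SU (n + 2) F q, act g (u₀ n δ) = α • u₀ n δ := by
  have hu := u₀_form (n := n) hF hδ
  obtain ⟨g, hg⟩ := exists_GU_of_family (q := q) (n := n + 2) hF (k := 1) (x := fun _ => u₀ n δ) (y := fun _ => α • u₀ n δ)
    (LinearIndependent.of_subsingleton (ι := Fin 1) 0 (u₀_ne δ))
    (LinearIndependent.of_subsingleton (ι := Fin 1) 0 (smul_ne_zero hα (u₀_ne δ)))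
    (fun i j => by
      rw [hu, hermForm_smul_left, hermForm_smul_right, hu, mul_zero, mul_zero])
  let i0 : Fin (n + 2) := ⟨2, by omega⟩
  set d : F := ((((detHom hF (n + 2) g)⁻¹ : (powMonoidHom (q + 1) : Fˣ →* Fˣ).ker) : Fˣ) : F) with hd
  have hd1 : d ^ (q + 1) = 1 := by
    have := ((detHom hF (n + 2) g)⁻¹).2
    rw [MonoidHom.mem_ker, powMonoidHom_apply] at this
    exact congrArg Units.val this
  have hpres : ∀ i, (Function.update (1 : Fin (n + 2) → F) i0 d) i ^ (q + 1) = 1 := by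
    intro i
    by_cases hi : i = i0
    · subst hi; rw [Function.update_self]; exact hd1
    · rw [Function.update_of_ne hi, Pi.one_apply, one_pow]
  let k : GU (n + 2) F q := mkGU hF _ (pres_diagonal (n := n + 2) (q := q) (Function.update (1 : Fin (n + 2) → F) i0 d) hpres)
  have hk : detHom hF (n + 2) k = (detHom hF (n + 2) g)⁻¹ := by
    apply Subtype.ext
    apply Units.ext
    change (Matrix.diagonal (Function.update (1 : Fin (n + 2) → F) i0 d)).det = d
    rw [Matrix.det_diagonal, Finset.prod_update_of_mem (Finset.mem_univ _)]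
    simp
  have h1 : g * k ∈ (detHom hF (n + 2)).ker := by
    rw [MonoidHom.mem_ker, map_mul, hk, mul_inv_cancel]
  rw [← suToGU_range hF] at h1
  obtain ⟨s, hs⟩ := h1
  refine ⟨s, ?_⟩
  have h2 : act s (u₀ n δ) = ((((g * k : GU (n + 2) F q)) : GL (Fin (n + 2)) F) : Matrix (Fin (n + 2)) (Fin (n + 2)) F) *ᵥ
      (u₀ n δ) := by
    rw [← hs]; rfl
  have h3 : ((k : GL (Fin (n + 2)) F) : Matrix (Fin (n + 2)) (Fin (n + 2)) F) *ᵥ (u₀ n δ) = u₀ n δ := by
    change (Matrix.diagonal (Function.update (1 : Fin (n + 2) → F) i0 d)) *ᵥ (u₀ n δ) = _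
    funext i
    rw [Matrix.mulVec_diagonal]
    by_cases hi : i = i0
    · subst hi
      have : u₀ n δ i0 = 0 := by
        change u₀ n δ ((⟨0, by omega⟩ : Fin n).succ.succ) = 0
        rw [u₀, Fin.cons_succ, Fin.cons_succ]; rfl
      rw [this, mul_zero]
    · rw [Function.update_of_ne hi, Pi.one_apply, one_mul]
  rw [h2]
  have h4 : ((((g * k : GU (n + 2) F q)) : GL (Fin (n + 2)) F) : Matrix (Fin (n + 2)) (Fin (n + 2)) F) =
      ((g : GL (Fin (n + 2)) F) : Matrix (Fin (n + 2)) (Fin (n + 2)) F) *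
      ((k : GL (Fin (n + 2)) F) : Matrix (Fin (n + 2)) (Fin (n + 2)) F) := rfl
  rw [h4, ← Matrix.mulVec_mulVec, h3]
  exact hg 0

/-- torus elements in `SL_2(q²) ≤ SU_4(q)` acting on a totally isotropic plane -/
theorem exists_scale_two (hF : Fintype.card F = q ^ 2) {u v x y : Fin n → F} (huv : Hyp q u v) (hxy : Hyp q x y)
    (hux : hermForm n F q u x = 0) (huy : hermForm n F q u y = 0) (hvx : hermForm n F q v x = 0) {t : F} (ht : t ≠ 0) :
    ∃ g : SU n F q, act g u = t • u ∧ act g x = t⁻¹ • x := by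
  have hxu := (hermForm_eq_zero_comm hF).1 hux
  have hxv := (hermForm_eq_zero_comm hF).1 hvx
  have h12 : ∀ a : F, ∃ g : SU n F q, act g u = u ∧ act g x = x + a • u := by
    intro a
    obtain ⟨g, hg⟩ := exists_eich hF u (-(a ^ q) • y) 0 huv.1 (by rw [hermForm_smul_right, huy, mul_zero])
      (by rw [hermForm_smul_left, hermForm_smul_right, hxy.2.1, zero_pow_q hF]; ring)
    refine ⟨g, ?_, ?_⟩
    · rw [hg, huv.1, hermForm_smul_right, huy]; simp
    · rw [hg, hxu, hermForm_smul_right, hxy.2.2, neg_pow_q hF, pow_q_pow_q hF]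
      module
  have h21 : ∀ b : F, ∃ g : SU n F q, act g x = x ∧ act g u = u + b • x := by
    intro b
    obtain ⟨g, hg⟩ := exists_eich hF x (-(b ^ q) • v) 0 hxy.1 (by rw [hermForm_smul_right, hxv, mul_zero])
      (by rw [hermForm_smul_left, hermForm_smul_right, huv.2.1, zero_pow_q hF]; ring)
    refine ⟨g, ?_, ?_⟩
    · rw [hg, hxy.1, hermForm_smul_right, hxv]; simp
    · rw [hg, hux, hermForm_smul_right, huv.2.2, neg_pow_q hF, pow_q_pow_q hF]
      module
  have hn : ∀ a : F, a ≠ 0 → ∃ g : SU n F q, act g u = -a⁻¹ • x ∧ act g x = a • u := by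
    intro a ha
    obtain ⟨g, hg1, hg2⟩ := h12 a
    obtain ⟨k, hk1, hk2⟩ := h21 (-a⁻¹)
    refine ⟨g * k * g, ?_, ?_⟩
    · rw [act_mul, act_mul, hg1, hk2, act_add, act_smul, hg1, hg2]
      rw [smul_add, smul_smul, neg_mul, inv_mul_cancel₀ ha]
      module
    · rw [act_mul, act_mul, hg2, act_add, act_smul, hk1, hk2, smul_add, smul_smul, mul_neg, mul_inv_cancel₀ ha]
      have : x + (a • u + (-1 : F) • x) = a • u := by module
      rw [this, act_smul, hg1]
  obtain ⟨g, hg1, hg2⟩ := hn t ht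
  obtain ⟨k, hk1, hk2⟩ := hn (-1) (by simp)
  refine ⟨g * k, ?_, ?_⟩
  · rw [act_mul, hk1, act_smul, hg2]
    simp
  · rw [act_mul, hk2, act_smul, hg1]
    simp

end Cfsg.Agent.LSU
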